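import Cfsg.Agent.Lib.Chevalley.TitsGroup.Normal
import Mathlib.GroupTheory.Abelianization.Defs
import Mathlib.GroupTheory.NoncommCoprod
import Mathlib.GroupTheory.SpecificGroups.Cyclic

/-!
An abstract criterion: a group of order 35942400 with four suitable generators has a simple derived subgroup
of index two.
-/

set_option autoImplicit false

namespace CfsgLib.Chevalley.TitsGroup

open scoped commutatorElement

/-- The data used for the derived subgroup. -/
structure Crit (G : Type*) [Group G] where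
  g : Fin 4 → G
  B : Subgroup G
  cardB : Nat.card ↥B ∣ 2 ^ 12
  sup : ∀ (Z : Subgroup G) [Z.Normal], Z ≠ ⊥ → Z ⊔ B = ⊤
  gen : Subgroup.closure (Set.range g) = ⊤
  one : (g 0 * g 1) ^ 3 = 1
  two : (g 2 * g 2 * g 2 * g 3) ^ 5 = 1
  three : (g 0 * g 1 * g 0 * g 2 * g 2 * g 2 * g 3) ^ 13 = 1
  four : (g 3 * g 2 * g 2 * g 0 * g 2 * g 0 * g 2 * g 2 * g 1) ^ 13 = 1
  card : Nat.card G = 35942400
  char : ∃ χ : G →* Multiplicative (ZMod 2), ∃ x, χ x ≠ 1

variable {G : Type*} [Group G] [Finite G] (C : Crit G)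
include C

theorem normal_index {Z : Subgroup G} [Z.Normal] (hne : Z ≠ ⊥) : Z.index ≤ 2 := by
  have hZB := C.sup Z hne
  have hmem : ∀ (x : G) (n : ℕ), Odd n → x ^ n = 1 → QuotientGroup.mk' Z x = 1 :=
    fun x n hn h => (QuotientGroup.eq_one_iff _).mpr (odd_mem C.B Z hZB C.cardB hn h)
  set a := QuotientGroup.mk' Z (C.g 0)
  set A := QuotientGroup.mk' Z (C.g 1)
  set b := QuotientGroup.mk' Z (C.g 2)
  set B := QuotientGroup.mk' Z (C.g 3)
  have h1 : a * A = 1 := by
    simpa only [map_mul] using hmem _ 3 (by decide) C.one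
  have h2 : b * b * b * B = 1 := by
    simpa only [map_mul] using hmem _ 5 (by decide) C.two
  have h3 : a * A * a * b * b * b * B = 1 := by
    simpa only [map_mul] using hmem _ 13 (by decide) C.three
  have h4 : B * b * b * a * b * a * b * b * A = 1 := by
    simpa only [map_mul] using hmem _ 13 (by decide) C.four
  have ha : a = 1 := by
    rw [show a * A * a * b * b * b * B = a * A * a * (b * b * b * B) by simp only [mul_assoc], h1, h2,
      one_mul, mul_one] at h3
    exact h3
  have hA : A = 1 := by rwa [ha, one_mul] at h1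
  have hB : B = (b * b * b)⁻¹ := eq_inv_of_mul_eq_one_right h2
  have hb : b * b = 1 := by
    rw [ha, hA, hB] at h4
    simp only [mul_one] at h4
    rw [show (b * b * b)⁻¹ * b * b * b * b * b = ((b * b * b)⁻¹ * (b * b * b)) * (b * b) by
      simp only [mul_assoc], inv_mul_cancel, one_mul] at h4
    exact h4
  have hQ : ∀ x : G ⧸ Z, x ∈ Subgroup.zpowers b := by
    intro x
    obtain ⟨g, rfl⟩ := QuotientGroup.mk'_surjective Z x
    have : (⊤ : Subgroup G) ≤ (Subgroup.zpowers b).comap (QuotientGroup.mk' Z) := by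
      rw [← C.gen, Subgroup.closure_le]
      rintro _ ⟨i, rfl⟩
      fin_cases i
      · show a ∈ Subgroup.zpowers b; rw [ha]; exact one_mem _
      · show A ∈ Subgroup.zpowers b; rw [hA]; exact one_mem _
      · exact Subgroup.mem_zpowers b
      · show B ∈ Subgroup.zpowers b; rw [hB]; exact inv_mem (mul_mem (mul_mem (Subgroup.mem_zpowers b) (Subgroup.mem_zpowers b)) (Subgroup.mem_zpowers b))
    exact this (Subgroup.mem_top g)
  rw [Subgroup.index_eq_card, ← Subgroup.card_top (G := G ⧸ Z),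
    show (⊤ : Subgroup (G ⧸ Z)) = Subgroup.zpowers b from le_antisymm (fun x _ => hQ x) le_top,
    Nat.card_zpowers]
  exact Nat.le_of_dvd two_pos (orderOf_dvd_of_pow_eq_one (by rw [pow_two, hb]))

theorem commutator_ne_bot : commutator G ≠ ⊥ := by
  intro h
  have key : ∀ x y : G, x * y = y * x := fun x y => commutatorElement_eq_one_iff_mul_comm.mp
    (Subgroup.mem_bot.mp (h ▸ Subgroup.commutator_mem_commutator (Subgroup.mem_top x) (Subgroup.mem_top y)))
  haveI : Fact (Nat.Prime 2) := ⟨Nat.prime_two⟩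
  obtain ⟨x, hx⟩ := exists_prime_orderOf_dvd_card' (G := G) 2 (by rw [C.card]; norm_num)
  haveI : (Subgroup.zpowers x).Normal := ⟨fun y hy g => by rwa [key g y, mul_inv_cancel_right]⟩
  have hne : Subgroup.zpowers x ≠ ⊥ := fun e => by
    rw [Subgroup.zpowers_eq_bot] at e
    rw [e, orderOf_one] at hx
    omega
  have h1 := normal_index C (Z := Subgroup.zpowers x) hne
  have h2 := (Subgroup.zpowers x).card_mul_index
  rw [Nat.card_zpowers, hx, C.card] at h2
  omega

theorem index_commutator : (commutator G).index = 2 := by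
  refine le_antisymm (normal_index C (commutator_ne_bot C)) ?_
  obtain ⟨χ, g, hg⟩ := C.char
  have h0 : (commutator G).index ≠ 0 := Subgroup.index_ne_zero_of_finite
  by_contra hlt
  have htop : commutator G = ⊤ := Subgroup.index_eq_one.mp (by omega)
  exact hg (MonoidHom.mem_ker.mp ((Abelianization.commutator_subset_ker χ) (htop ▸ Subgroup.mem_top g)))

theorem card_commutator : Nat.card ↥(commutator G) = 17971200 := by
  have := (commutator G).card_mul_index
  rw [index_commutator C, C.card] at this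
  omega

theorem eq_commutator {M : Subgroup G} [M.Normal] (hne : M ≠ ⊥) (hle : M ≤ commutator G) :
    M = commutator G := by
  refine Subgroup.eq_of_le_of_card_ge hle ?_
  have h1 := M.card_mul_index
  have h2 := normal_index C hne
  rw [C.card] at h1
  rw [card_commutator C]
  interval_cases h : M.index <;> omega

theorem simple_commutator : IsSimpleGroup ↥(commutator G) := by
  have : Nontrivial ↥(commutator G) := Finite.one_lt_card_iff_nontrivial.mp (by rw [card_commutator C]; norm_num)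
  refine ⟨fun N hN => ?_⟩
  obtain ⟨t, -, ht⟩ : ∃ t ∈ (⊤ : Subgroup G), t ∉ commutator G := by
    by_contra! hall
    have h := index_commutator C
    rw [(Subgroup.eq_top_iff' _).mpr fun x => hall x (Subgroup.mem_top x), Subgroup.index_top] at h
    omega
  set N₁ := N.map (commutator G).subtype
  set N₂ := N₁.map (MulAut.conj t).toMonoidHom
  have hN1le : N₁ ≤ (commutator G) := Subgroup.map_subtype_le N
  have hcG : ∀ x ∈ (commutator G), ∀ g : G, g * x * g⁻¹ ∈ (commutator G) := fun x hx g => Subgroup.Normal.conj_mem inferInstance x hx g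
  have hN2le : N₂ ≤ (commutator G) := by rintro _ ⟨x, hx, rfl⟩; exact hcG x (hN1le hx) t
  have c1 : ∀ g ∈ (commutator G), ∀ x ∈ N₁, g * x * g⁻¹ ∈ N₁ := by
    rintro g hg _ ⟨x, hx, rfl⟩
    exact ⟨⟨g, hg⟩ * x * (⟨g, hg⟩ : ↥(commutator G))⁻¹, hN.conj_mem x hx ⟨g, hg⟩, rfl⟩
  have c2 : ∀ g ∈ (commutator G), ∀ x ∈ N₂, g * x * g⁻¹ ∈ N₂ := by
    rintro g hg _ ⟨x, hx, rfl⟩
    refine ⟨(t⁻¹ * g * t) * x * (t⁻¹ * g * t)⁻¹, c1 _ ?_ x hx, ?_⟩
    · simpa using hcG g hg t⁻¹
    · simp [MulAut.conj_apply, mul_assoc]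
  have htt : ∀ g : G, g ∉ (commutator G) → ∃ s ∈ (commutator G), g = s * t := fun g hg =>
    ⟨g * t⁻¹, (Subgroup.mul_mem_iff_of_index_two (index_commutator C)).mpr
      (iff_of_false hg (fun h => ht (inv_mem_iff.mp h))), by group⟩
  have ht2 : t * t ∈ (commutator G) := (Subgroup.mul_mem_iff_of_index_two (index_commutator C)).mpr Iff.rfl
  have swap : ∀ x ∈ N₂, t * x * t⁻¹ ∈ N₁ := by
    rintro _ ⟨x, hx, rfl⟩
    simpa [MulAut.conj_apply, mul_assoc] using c1 (t * t) ht2 x hx
  have move : ∀ x ∈ N₁, t * x * t⁻¹ ∈ N₂ := fun x hx => ⟨x, hx, rfl⟩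
  have nrm : ∀ M : Subgroup G, (∀ g ∈ (commutator G), ∀ x ∈ M, g * x * g⁻¹ ∈ M) → (∀ x ∈ M, t * x * t⁻¹ ∈ M) →
      M.Normal := fun M h1 h2 => ⟨fun x hx g => by
    by_cases hg : g ∈ (commutator G)
    · exact h1 g hg x hx
    · obtain ⟨s, hs, rfl⟩ := htt g hg
      simpa [mul_assoc] using h1 s hs _ (h2 x hx)⟩
  by_cases hbot : N = ⊥
  · exact Or.inl hbot
  right
  have hne1 : N₁ ≠ ⊥ := fun e => hbot ((Subgroup.map_eq_bot_iff_of_injective N Subtype.val_injective).mp e)
  suffices h : N₁ = (commutator G) by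
    refine Subgroup.eq_top_of_card_eq N ?_
    exact (Subgroup.card_map_of_injective (commutator G).subtype_injective).symm.trans
      (congrArg (fun K : Subgroup G => Nat.card ↥K) h)
  haveI hI : (N₁ ⊓ N₂).Normal := nrm _ (fun g hg x hx => ⟨c1 g hg x hx.1, c2 g hg x hx.2⟩)
    fun x hx => ⟨swap x hx.2, move x hx.1⟩
  by_cases hi : N₁ ⊓ N₂ = ⊥
  · exfalso
    have hcomm : ∀ x ∈ N₁, ∀ y ∈ N₂, x * y = y * x := fun x hx y hy => by
      have h : x * y * x⁻¹ * y⁻¹ ∈ N₁ ⊓ N₂ := by
        refine Subgroup.mem_inf.mpr ⟨?_, N₂.mul_mem (c2 x (hN1le hx) y hy) (N₂.inv_mem hy)⟩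
        rw [mul_assoc x y, mul_assoc x]
        exact mul_mem hx (c1 y (hN2le hy) _ (inv_mem hx))
      rw [hi, Subgroup.mem_bot, mul_inv_eq_one, mul_inv_eq_iff_eq_mul] at h
      exact h
    let f : ↥N₁ × ↥N₂ →* G :=
      MonoidHom.noncommCoprod N₁.subtype N₂.subtype fun x y => hcomm x x.2 y y.2
    have hf : Function.Injective f := by
      rw [injective_iff_map_eq_one]
      rintro ⟨x, y⟩ h
      replace h : (x : G) * y = 1 := h
      have hx : (x : G) ∈ N₁ ⊓ N₂ := Subgroup.mem_inf.mpr ⟨x.2, by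
        rw [eq_inv_of_mul_eq_one_left h]; exact N₂.inv_mem y.2⟩
      rw [hi, Subgroup.mem_bot] at hx
      rw [hx, one_mul] at h
      exact Prod.ext (Subtype.ext hx) (Subtype.ext h)
    haveI hR : f.range.Normal := by
      refine nrm _ ?_ ?_
      · rintro g hg _ ⟨⟨x, y⟩, rfl⟩
        exact ⟨(⟨_, c1 g hg x x.2⟩, ⟨_, c2 g hg y y.2⟩),
          show g * (x : G) * g⁻¹ * (g * (y : G) * g⁻¹) = g * ((x : G) * y) * g⁻¹ by group⟩
      · rintro _ ⟨⟨x, y⟩, rfl⟩
        refine ⟨(⟨_, swap y y.2⟩, ⟨_, move x x.2⟩), ?_⟩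
        show t * (y : G) * t⁻¹ * (t * (x : G) * t⁻¹) = t * ((x : G) * y) * t⁻¹
        rw [hcomm x x.2 y y.2]
        group
    have hrne : f.range ≠ ⊥ := fun e => hne1 ((Subgroup.eq_bot_iff_forall _).mpr fun x hx => by
      have : f (⟨x, hx⟩, 1) ∈ f.range := ⟨_, rfl⟩
      rw [e, Subgroup.mem_bot] at this
      replace this : x * (1 : G) = 1 := this
      simpa using this)
    have hle : f.range ≤ (commutator G) := by
      rintro _ ⟨⟨x, y⟩, rfl⟩
      exact mul_mem (hN1le x.2) (hN2le y.2)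
    have heq := eq_commutator C hrne hle
    have hc : Nat.card ↥N₁ * Nat.card ↥N₂ = 17971200 := by
      rw [← Nat.card_prod, Nat.card_congr (MonoidHom.ofInjective hf).toEquiv, heq, card_commutator C]
    have h12 : Nat.card ↥N₂ = Nat.card ↥N₁ := Subgroup.card_map_of_injective (MulAut.conj t).injective
    rw [h12] at hc
    have h13 : 13 ∣ Nat.card ↥N₁ * Nat.card ↥N₁ := by rw [hc]; norm_num
    obtain ⟨c, hc'⟩ := ((Nat.Prime.dvd_mul (by norm_num : Nat.Prime 13)).mp h13).elim id id
    rw [hc', show 13 * c * (13 * c) = 169 * (c * c) by ring] at hc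
    omega
  · exact le_antisymm hN1le ((eq_commutator C hi (inf_le_left.trans hN1le)).ge.trans inf_le_left)

theorem not_comm : ¬ IsMulCommutative ↥(commutator G) := fun h => by
  haveI := simple_commutator C
  letI : CommGroup ↥(commutator G) :=
    { (inferInstance : Group ↥(commutator G)) with mul_comm := h.is_comm.comm }
  have hp : Nat.Prime (Nat.card ↥(commutator G)) := IsSimpleGroup.prime_card
  rw [card_commutator C] at hp
  exact Nat.not_prime_of_dvd_of_lt (m := 2) (by norm_num) le_rfl (by norm_num) hp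

end CfsgLib.Chevalley.TitsGroup
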