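import Cfsg.Agent.Lib.Chevalley.TitsGroup.Cover
import Cfsg.Agent.Lib.Chevalley.TitsGroup.Crit
import Cfsg.Agent.Lib.Chevalley.Twist.PairW
import Cfsg.Agent.Lib.Chevalley.Data.SmithCerts
import Cfsg.Agent.Lib.Chevalley.Orders

/-!
The derived subgroup of `²F₄(2)` has index two and is simple.
-/

set_option autoImplicit false
set_option maxRecDepth 20000

namespace CfsgLib.Chevalley.TitsGroup

open Tbl Twist.F4
open scoped commutatorElement

local notation "T4" => Data.F4.tbl

/-- The group `²F₄(2)` as fixed points. -/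
abbrev TG : Type := ↥(S hK2).fix

theorem card_TG : Nat.card TG = 35942400 := by
  have h := card_eq hK2
  rw [grp_eq_fix hK2] at h
  rw [h]; norm_num

/-- The (B,N)-pair. -/
noncomputable def BN : Cfsg.BNPair TG := Twist.pair (hV hK2)

theorem BN_irr : BN.Irreducible := by
  refine Twist.pair_irreducible (hV hK2) fun J ha hb => ?_
  obtain ⟨a, ha⟩ := ha
  obtain ⟨b, hb⟩ := hb
  refine ⟨a, b, ha, hb, fun hcomm => ?_⟩
  have hab : a ≠ b := fun e => by rw [e, hb] at ha; exact Bool.false_ne_true ha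
  have key : ∀ a b : Fin 2, a ≠ b → ∃ r : Fin (T4).n,
      (T4).actWord (Data.F4.orbWords.getD a []) ((T4).actWord (Data.F4.orbWords.getD b []) r) ≠
        (T4).actWord (Data.F4.orbWords.getD b []) ((T4).actWord (Data.F4.orbWords.getD a []) r) := by
    decide +kernel
  obtain ⟨r, hr⟩ := key a b hab
  apply hr
  have := congrArg (fun p : Equiv.Perm (Fin (T4).n) => (p r).val) hcomm.eq
  simp only [Equiv.Perm.mul_apply] at this
  have ew : ∀ (k : Fin (O hK2).o) (s : Fin (T4).n),
      ((S hK2).wJ (O hK2) k s).val = (T4).actWord (Data.F4.orbWords.getD k []) s :=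
    fun k s => (data hK2).orbits_wJ chk_orbits k s
  rwa [ew, ew, ew, ew] at this

theorem BN_core : BN.B.normalCore = ⊥ := Twist.core_eq_bot (hV hK2) (hc hK2)

theorem card_B : Nat.card ↥BN.B ∣ 2 ^ 12 := by
  have hd : (T4).datum.diagonalSubgroup (ZMod 2) = ⊥ := by
    rw [Subgroup.eq_bot_iff_card]
    have h := Tbl.diag_order Data.F4.valid (F := ZMod 2) (q := 2) (ZMod.card 2) Data.F4.chkSmith
    simp only [show (2 : ℕ) - 1 = 1 from rfl, one_pow] at h
    exact Nat.eq_one_of_mul_eq_one_left h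
  have hb : (T4).datum.borelSubgroup (ZMod 2) = (T4).datum.posUnipotent (ZMod 2) := by
    rw [Cfsg.Lie.ChevalleyDatum.borelSubgroup, hd, sup_bot_eq]
  show Nat.card ↥(((T4).datum.borelSubgroup (ZMod 2) ⊓ (S hK2).fix).subgroupOf (S hK2).fix) ∣ 2 ^ 12
  rw [Nat.card_congr (Subgroup.subgroupOfEquivOfLe inf_le_right).toEquiv, hb, card_Upos hK2]
  norm_num

theorem gen4_fix (i : Fin 4) : gen4 i ∈ (S hK2).fix := grp_eq_fix hK2 ▸ gen4_mem i

/-- The generators inside the group. -/
noncomputable def gT (i : Fin 4) : TG := ⟨gen4 i, gen4_fix i⟩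

/-- A word in the group. -/
noncomputable def wT (w : List (Fin 4)) : TG := (w.map gT).prod

theorem wT_pow {w : List (Fin 4)} {n : ℕ} (h : wordG w ^ n = 1) : wT w ^ n = 1 := by
  refine Subtype.ext ?_
  have : ((wT w : TG) : GL I4 (ZMod 2)) = wordG w := by
    rw [wT, SubmonoidClass.coe_list_prod, List.map_map, wordG]
    rfl
  rw [SubmonoidClass.coe_pow, this, h, OneMemClass.coe_one]

theorem closure_gT : Subgroup.closure (Set.range gT) = ⊤ := by
  apply Subgroup.map_injective (S hK2).fix.subtype_injective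
  rw [MonoidHom.map_closure, ← Set.range_comp, ← MonoidHom.range_eq_map, Subgroup.range_subtype]
  exact closure_gen4.trans (grp_eq_fix hK2)

theorem exists_char : ∃ χ : TG →* Multiplicative (ZMod 2), ∃ g, χ g ≠ 1 :=
  ⟨chi.comp (MulEquiv.subgroupCongr (grp_eq_fix hK2).symm).toMonoidHom, gT 2, chi_ne⟩

/-- The criterion holds. -/
noncomputable def crit : Crit TG where
  g := gT
  B := BN.B
  cardB := card_B
  sup := fun Z _ hne => sup_B_eq_top BN BN_irr BN_core Z hne
  gen := closure_gT
  one := by simpa [wT, mul_assoc] using wT_pow cert_one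
  two := by simpa [wT, mul_assoc] using wT_pow cert_two
  three := by simpa [wT, mul_assoc] using wT_pow cert_three
  four := by simpa [wT, mul_assoc] using wT_pow cert_four
  card := card_TG
  char := exists_char

theorem main : (commutator ↥(Cfsg.Lie.twistedF4 (ZMod 2) 1)).index = 2 ∧ IsSimpleGroup Cfsg.Lie.TitsGroup ∧
    ¬ IsMulCommutative Cfsg.Lie.TitsGroup ∧ Nat.card Cfsg.Lie.TitsGroup = 2 ^ 11 * 3 ^ 3 * 5 ^ 2 * 13 := by
  have h := transfer hK2 (fun _ G => (commutator ↥G).index = 2 ∧ IsSimpleGroup ↥(commutator ↥G) ∧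
    ¬ IsMulCommutative ↥(commutator ↥G) ∧ Nat.card ↥(commutator ↥G) = 2 ^ 11 * 3 ^ 3 * 5 ^ 2 * 13)
    ⟨index_commutator crit, simple_commutator crit, not_comm crit, by rw [card_commutator crit]; norm_num⟩
  simpa using h

end CfsgLib.Chevalley.TitsGroup
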