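import Cfsg.Agent.Lib.Chevalley.Data.F4
import Cfsg.Agent.Lib.Chevalley.Group

/-!
Matrices over the field with two elements on the 52 coordinates of F₄, coded by bit strings.
-/

set_option autoImplicit false
set_option maxRecDepth 20000

namespace CfsgLib.Chevalley.TitsGroup

local notation "T4" => Data.F4.tbl

/-- The coordinates. -/
abbrev I4 : Type := (Data.F4.tbl).I

theorem rank4 : (Data.F4.tbl).rank = 4 := rfl

theorem n48 : (Data.F4.tbl).n = 48 := rfl

/-- The position of a coordinate. -/
def pos : I4 → ℕ := Sum.elim (fun i => i.val) fun s => 4 + s.val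

theorem pos_lt : ∀ j : I4, pos j < 52
  | Sum.inl i => by have := i.isLt; have := rank4; simp only [pos, Sum.elim_inl]; omega
  | Sum.inr s => by have := s.isLt; have := n48; simp only [pos, Sum.elim_inr]; omega

/-- The vector of a bit string. -/
def dec (v : ℕ) : I4 → ZMod 2 := fun j => if v.testBit (pos j) then 1 else 0

/-- The matrix with the given columns. -/
def mat (C : List ℕ) : Matrix I4 I4 (ZMod 2) := Matrix.of fun i j => dec (C.getD (pos j) 0) i

/-- The image of a bit string under a matrix given by columns. -/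
def apL : List ℕ → ℕ → ℕ
  | [], _ => 0
  | c :: C, v => (if v % 2 = 1 then c else 0) ^^^ apL C (v / 2)

theorem dec_zero : dec 0 = 0 := funext fun j => by simp [dec]

theorem dec_xor (u v : ℕ) : dec (u ^^^ v) = dec u + dec v := funext fun j => by
  simp only [dec, Nat.testBit_xor, Pi.add_apply]
  cases u.testBit (pos j) <;> cases v.testBit (pos j) <;> decide

theorem dec_apL (C : List ℕ) (v : ℕ) (i : I4) :
    dec (apL C v) i = ∑ k ∈ Finset.range C.length, (if v.testBit k then (1 : ZMod 2) else 0) * dec (C.getD k 0) i := by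
  induction C generalizing v with
  | nil => simp [apL, dec_zero]
  | cons c C ih =>
    rw [List.length_cons, Finset.sum_range_succ', apL, dec_xor, Pi.add_apply, ih, add_comm]
    refine congrArg₂ (· + ·) ?_ ?_
    · refine Finset.sum_congr rfl fun k _ => ?_
      rw [Nat.testBit_succ, List.getD_cons_succ]
    · rw [List.getD_cons_zero, Nat.testBit_zero]
      split <;> simp_all [dec_zero]

theorem sum_pos (f : ℕ → ZMod 2) : ∑ j : I4, f (pos j) = ∑ k ∈ Finset.range 52, f k := by
  rw [Fintype.sum_sum_type, show (52 : ℕ) = 4 + 48 from rfl, Finset.sum_range_add]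
  exact congrArg₂ (· + ·) (Fin.sum_univ_eq_sum_range f (Data.F4.tbl).rank)
    (Fin.sum_univ_eq_sum_range (fun k => f (4 + k)) (Data.F4.tbl).n)

theorem mat_mulVec {C : List ℕ} (hC : C.length = 52) (v : ℕ) : (mat C).mulVec (dec v) = dec (apL C v) := by
  funext i
  rw [dec_apL, hC, ← sum_pos]
  simp only [Matrix.mulVec, dotProduct, mat, Matrix.of_apply, dec, mul_comm]

/-- The product of two matrices given by columns. -/
def mulL (A B : List ℕ) : List ℕ := B.map (apL A)

theorem mat_mul {A B : List ℕ} (hA : A.length = 52) (hB : B.length = 52) : mat A * mat B = mat (mulL A B) := by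
  ext i j
  have hj : pos j < B.length := by rw [hB]; exact pos_lt j
  have h := congrFun (mat_mulVec hA (B.getD (pos j) 0)) i
  rw [Matrix.mul_apply]
  show ∑ k, mat A i k * dec (B.getD (pos j) 0) k = _
  refine h.trans ?_
  simp [mat, mulL, List.getD_eq_getElem?_getD, hj]

/-- The identity by columns. -/
def oneL : List ℕ := (List.range 52).map (2 ^ ·)

theorem mat_one_check : ∀ x : I4 × I4, mat oneL x.1 x.2 = if pos x.1 = pos x.2 then 1 else 0 := by
  decide +kernel

theorem pos_inj : Function.Injective pos := by
  rintro (a | a) (b | b) h <;> simp [pos] at h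
  · rw [Fin.ext h]
  · have := a.isLt; have := rank4; omega
  · have := b.isLt; have := rank4; omega
  · rw [Fin.ext h]

theorem mat_oneL : mat oneL = 1 := Matrix.ext fun i j => by
  rw [mat_one_check (i, j), Matrix.one_apply]; simp only [pos_inj.eq_iff]

theorem dec_inj {u v : ℕ} (hu : u < 2 ^ 52) (hv : v < 2 ^ 52) (h : dec u = dec v) : u = v := by
  refine Nat.eq_of_testBit_eq fun k => ?_
  by_cases hk : k < 52
  · obtain ⟨j, rfl⟩ : ∃ j : I4, pos j = k := by
      by_cases h4 : k < 4
      · exact ⟨Sum.inl ⟨k, rank4.symm ▸ h4⟩, rfl⟩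
      · exact ⟨Sum.inr ⟨k - 4, by rw [n48]; omega⟩, by simp [pos]; omega⟩
    have := congrFun h j
    simp only [dec] at this
    cases hu' : u.testBit (pos j) <;> cases hv' : v.testBit (pos j) <;> simp [hu', hv'] at this ⊢
  · have hp : 2 ^ 52 ≤ 2 ^ k := Nat.pow_le_pow_right two_pos (by omega)
    rw [Nat.testBit_lt_two_pow (by omega), Nat.testBit_lt_two_pow (by omega)]

end CfsgLib.Chevalley.TitsGroup
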