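import Cfsg.Agent.Lib.Chevalley.TitsGroup.CoverCheck

/-!
A character of order two of `²F₄(2)`: the parity of the number of sheet changes in a double cover of 1755 points.
-/

set_option autoImplicit false
set_option maxRecDepth 20000

namespace CfsgLib.Chevalley.TitsGroup

open Matrix

/-- The points. -/
def sv (i : Fin 1755) : I4 → ZMod 2 := dec (look sData i.val)

/-- The lifts. -/
def rv (i : Fin 1755) : I4 → ZMod 2 := dec (look rData i.val)

theorem sv_inj : Function.Injective sv := fun i j h => by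
  have e := dec_inj (sData_lt i i.2).2 (sData_lt j j.2).2 h
  rcases lt_trichotomy i.val j.val with h | h | h
  · exact absurd e (sData_mono h j.2).ne
  · exact Fin.ext h
  · exact absurd e (sData_mono h i.2).ne'

theorem sv_ne (i : Fin 1755) : sv i ≠ 0 := fun h => by
  rw [← dec_zero] at h
  exact (sData_lt i i.2).1.ne' (dec_inj (sData_lt i i.2).2 (by norm_num) h)

/-- How an element moves the double cover. -/
def Moves (g : GL I4 (ZMod 2)) (p : Equiv.Perm (Fin 1755)) (f : Fin 1755 → ZMod 2) : Prop :=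
  ∀ i, sv i ᵥ* (g : Matrix I4 I4 (ZMod 2)) = sv (p i) ∧
    rv i ᵥ* (g : Matrix I4 I4 (ZMod 2)) = rv (p i) + f i • sv (p i)

theorem moves_one : Moves 1 1 0 := fun i => by simp

theorem moves_mul {g h : GL I4 (ZMod 2)} {p q : Equiv.Perm (Fin 1755)} {f e : Fin 1755 → ZMod 2}
    (hg : Moves g p f) (hh : Moves h q e) : Moves (g * h) (q * p) (fun i => f i + e (p i)) := fun i => by
  obtain ⟨g1, g2⟩ := hg i
  obtain ⟨h1, h2⟩ := hh (p i)
  rw [Units.val_mul, ← vecMul_vecMul, ← vecMul_vecMul, g1, g2, h1, add_vecMul, smul_vecMul, h1, h2]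
  exact ⟨rfl, by rw [Equiv.Perm.mul_apply, add_smul]; abel⟩

theorem moves_unique {g : GL I4 (ZMod 2)} {p q : Equiv.Perm (Fin 1755)} {f e : Fin 1755 → ZMod 2}
    (h : Moves g p f) (h' : Moves g q e) : p = q ∧ f = e := by
  have hpq : p = q := Equiv.ext fun i => sv_inj ((h i).1.symm.trans (h' i).1)
  subst hpq
  refine ⟨rfl, funext fun i => ?_⟩
  have := (h i).2.symm.trans (h' i).2
  exact smul_left_injective (ZMod 2) (sv_ne (p i)) (add_left_cancel this)

/-- The elements preserving the double cover. -/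
def movers : Subgroup (GL I4 (ZMod 2)) where
  carrier := {g | ∃ p f, Moves g p f}
  one_mem' := ⟨1, 0, moves_one⟩
  mul_mem' := fun ⟨_, _, hg⟩ ⟨_, _, hh⟩ => ⟨_, _, moves_mul hg hh⟩
  inv_mem' := by
    rintro g ⟨p, f, hg⟩
    have h : ∀ n : ℕ, ∃ p f, Moves (g ^ n) p f := by
      intro n
      induction n with
      | zero => exact ⟨1, 0, by rw [pow_zero]; exact moves_one⟩
      | succ n ih => obtain ⟨q, e, he⟩ := ih; exact ⟨_, _, by rw [pow_succ]; exact moves_mul he hg⟩
    have hg' : g⁻¹ = g ^ (orderOf g - 1) := inv_eq_of_mul_eq_one_right (by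
      rw [← pow_succ', Nat.sub_add_cancel (orderOf_pos g), pow_orderOf_eq_one])
    rw [hg']
    exact h _

theorem gR_image (k : Fin 4) (i : Fin 1755) : ∃ (j : Fin 1755) (e : ZMod 2),
    sv i ᵥ* (gen4 k : Matrix I4 I4 (ZMod 2)) = sv j ∧
      rv i ᵥ* (gen4 k : Matrix I4 I4 (ZMod 2)) = rv j + e • sv j ∧
      j.val = look (imgData k) i.val / 2 ∧ e = ((look (imgData k) i.val % 2 : ℕ) : ZMod 2) := by
  have h := allBelow_spec (chk_all k) i.val i.2
  simp only [chk, Bool.and_eq_true, Nat.blt_eq] at h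
  obtain ⟨⟨hj, hs⟩, hr⟩ := h
  refine ⟨⟨_, hj⟩, _, ?_, ?_, rfl, rfl⟩
  · rw [← mulVec_transpose, gen4_transpose, sv, mat_mulVec (gC_len k).2, Nat.eq_of_beq_eq_true hs]
    rfl
  · rw [← mulVec_transpose, gen4_transpose, rv, mat_mulVec (gC_len k).2, Nat.eq_of_beq_eq_true hr]
    rcases Nat.mod_two_eq_zero_or_one (look (imgData k) i.val) with h2 | h2
    · rw [h2]; simp [rv]
    · rw [h2, show Nat.beq 1 0 = false from rfl, cond_false, dec_xor, Nat.cast_one, one_smul]
      rfl

theorem exists_moves (k : Fin 4) : ∃ p f, Moves (gen4 k) p f ∧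
    ∀ i, f i = ((look (imgData k) i.val % 2 : ℕ) : ZMod 2) := by
  choose j e h1 h2 _ he using gR_image k
  have hinj : Function.Injective j := fun a b hab => sv_inj
    (Matrix.vecMul_injective_iff_isUnit.mpr (gen4 k).isUnit (by
      show sv a ᵥ* (gen4 k : Matrix I4 I4 (ZMod 2)) = sv b ᵥ* (gen4 k : Matrix I4 I4 (ZMod 2))
      rw [h1, h1, hab]))
  exact ⟨Equiv.ofBijective j (Finite.injective_iff_bijective.mp hinj), e, fun i => ⟨h1 i, h2 i⟩, he⟩

theorem GT_le : GT ≤ movers := by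
  rw [← closure_gen4, Subgroup.closure_le]
  rintro _ ⟨k, rfl⟩
  obtain ⟨p, f, h, -⟩ := exists_moves k
  exact ⟨p, f, h⟩

theorem sum_shift {ι M : Type*} [Fintype ι] [AddCommMonoid M] (p : Equiv.Perm ι) (f e : ι → M) :
    ∑ i, (f i + e (p i)) = ∑ i, f i + ∑ i, e i := by
  rw [Finset.sum_add_distrib, Equiv.sum_comp p e]

theorem exists_sum {g : GL I4 (ZMod 2)} (hg : g ∈ GT) :
    ∃ s : ZMod 2, ∀ p f, Moves g p f → s = ∑ i, f i := by
  obtain ⟨p, f, h⟩ := GT_le hg
  exact ⟨_, fun q e h' => congrArg (fun f : Fin 1755 → ZMod 2 => ∑ i, f i) (moves_unique h h').2⟩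

/-- The number of sheet changes of an element, modulo two. -/
noncomputable def chiFun (g : ↥GT) : ZMod 2 := (exists_sum g.2).choose

theorem chiFun_eq (g : ↥GT) {p : Equiv.Perm (Fin 1755)} {f : Fin 1755 → ZMod 2}
    (h : Moves (g : GL I4 (ZMod 2)) p f) : chiFun g = ∑ i, f i :=
  (exists_sum g.2).choose_spec p f h

theorem chiFun_mul (a b : ↥GT) : chiFun (a * b) = chiFun a + chiFun b := by
  obtain ⟨p, f, ha⟩ := GT_le a.2
  obtain ⟨q, e, hb⟩ := GT_le b.2
  rw [chiFun_eq a ha, chiFun_eq b hb, chiFun_eq (a * b) (moves_mul ha hb), sum_shift]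

/-- The character of order two. -/
noncomputable def chi : ↥GT →* Multiplicative (ZMod 2) :=
  MonoidHom.mk' (fun g => Multiplicative.ofAdd (chiFun g)) fun a b => by rw [chiFun_mul, ofAdd_add]

theorem sum_flips (k : Fin 4) : ∀ (n : ℕ) (f : Fin n → ZMod 2),
    (∀ i, f i = ((look (imgData k) i.val % 2 : ℕ) : ZMod 2)) → ∑ i, f i = ((flips k n : ℕ) : ZMod 2) := by
  intro n
  induction n with
  | zero => intro f _; simp [flips]
  | succ n ih =>
    intro f hf
    rw [Fin.sum_univ_castSucc, ih (fun i => f i.castSucc) (fun i => hf i.castSucc), hf (Fin.last n), flips]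
    simp only [Fin.val_last, ZMod.natCast_mod, Nat.cast_add]

attribute [local irreducible] flips look imgData

theorem chiFun_gen : chiFun ⟨gen4 2, gen4_mem 2⟩ = ((flips 2 1755 : ℕ) : ZMod 2) := by
  obtain ⟨p, f, h, he⟩ := exists_moves 2
  exact Eq.trans (chiFun_eq ⟨gen4 2, gen4_mem 2⟩ h) (sum_flips (2 : Fin 4) 1755 f he)

theorem chi_ne : chi ⟨gen4 2, gen4_mem 2⟩ ≠ 1 := by
  have h : chiFun ⟨gen4 2, gen4_mem 2⟩ = 1 := by rw [chiFun_gen, flips_two, Nat.cast_one]
  intro e
  have e' : chiFun ⟨gen4 2, gen4_mem 2⟩ = 0 := Multiplicative.ofAdd.injective e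
  exact absurd (h.symm.trans e') (by decide)

end CfsgLib.Chevalley.TitsGroup
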