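import Cfsg.Agent.Lib.Chevalley.TitsGroup.Gens

/-!
Checks on the double cover of the 1755 points of `²F₄(2)`.
-/

set_option autoImplicit false
set_option maxRecDepth 20000

namespace CfsgLib.Chevalley.TitsGroup

open Matrix

/-- An entry of a table in blocks of 39. -/
def look (L : List (List ℕ)) (i : ℕ) : ℕ := (L.getD (i / 39) []).getD (i % 39) 0

/-- The images under a generator. -/
def imgData (k : Fin 4) : List (List ℕ) := [imgData0, imgData1, imgData2, imgData3].getD k.val []

/-- A conjunction over the numbers below `n`. -/
def allBelow (f : ℕ → Bool) : ℕ → Bool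
  | 0 => true
  | n + 1 => f n && allBelow f n

theorem allBelow_spec {f : ℕ → Bool} {n : ℕ} (h : allBelow f n = true) : ∀ k < n, f k = true := by
  induction n with
  | zero => intro k hk; omega
  | succ n ih =>
    simp only [allBelow, Bool.and_eq_true] at h
    intro k hk
    rcases Nat.lt_succ_iff_lt_or_eq.mp hk with hk | rfl
    · exact ih h.2 k hk
    · exact h.1

/-- The check on one point and one generator. -/
def chk (k : Fin 4) (i : ℕ) : Bool :=
  let e := look (imgData k) i
  let j := e / 2
  Nat.blt j 1755 && Nat.beq (apL (gR k) (look sData i)) (look sData j) &&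
    Nat.beq (apL (gR k) (look rData i)) (bif Nat.beq (e % 2) 0 then look rData j else look rData j ^^^ look sData j)

theorem chk_all : ∀ k : Fin 4, allBelow (chk k) 1755 = true := by decide +kernel

/-- The points are increasing bit strings below `2 ^ 52`, and nonzero. -/
def chkS (i : ℕ) : Bool :=
  Nat.blt 0 (look sData i) && Nat.blt (look sData i) (2 ^ 52) &&
    (Nat.beq i 1754 || Nat.blt (look sData i) (look sData (i + 1)))

theorem chkS_all : allBelow chkS 1755 = true := by decide +kernel

theorem sData_lt (i : ℕ) (hi : i < 1755) : 0 < look sData i ∧ look sData i < 2 ^ 52 := by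
  have := allBelow_spec chkS_all i hi
  simp only [chkS, Bool.and_eq_true, Nat.blt_eq] at this
  exact this.1

theorem sData_mono {i j : ℕ} (hij : i < j) (hj : j < 1755) : look sData i < look sData j := by
  induction j with
  | zero => omega
  | succ j ih =>
    have h := allBelow_spec chkS_all j (by omega)
    simp only [chkS, Bool.and_eq_true, Bool.or_eq_true, Nat.blt_eq, Nat.beq_eq] at h
    have h2 : look sData j < look sData (j + 1) := by
      rcases h.2 with h | h
      · omega
      · exact h
    rcases Nat.lt_succ_iff_lt_or_eq.mp hij with h3 | rfl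
    · exact (ih h3 (by omega)).trans h2
    · exact h2

/-- The parity of the sheet changes of a generator. -/
def flips (k : Fin 4) : ℕ → ℕ
  | 0 => 0
  | n + 1 => (flips k n + look (imgData k) n) % 2

theorem flips_two : flips 2 1755 = 1 := by decide +kernel

end CfsgLib.Chevalley.TitsGroup
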