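import Cfsg.Agent.Lib.Chevalley.TitsGroup.Roots

/-!
The generators and the certificates of elements of odd order.
-/

set_option autoImplicit false
set_option maxRecDepth 20000

namespace CfsgLib.Chevalley.TitsGroup

open Twist.F4

local notation "T4" => Data.F4.tbl

theorem hK2 : Nat.card (ZMod 2) = 2 ^ (2 * 0 + 1) := by simp

/-- The group `²F₄(2)`. -/
noncomputable abbrev GT : Subgroup (GL I4 (ZMod 2)) := grp (ZMod 2) 0

/-- The four generators. -/
noncomputable def gen4 : Fin 4 → GL I4 (ZMod 2) :=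
  ![pair 0 33 24 1, pair 0 14 23 1, quad 0 27 25 28 30 1 0, quad 0 20 22 19 17 1 0]

/-- The columns of a generator. -/
def gC (i : Fin 4) : List ℕ := genCols.getD i.val []

/-- The rows of a generator. -/
def gR (i : Fin 4) : List ℕ := genRows.getD i.val []

theorem gC_len : ∀ i, (gC i).length = 52 ∧ (gR i).length = 52 := by decide +kernel

theorem xU_one {r : ℕ} {C : List ℕ} (h : (r, C) ∈ rootCols) :
    (((T4).xU (ZMod 2) r 1 : GL I4 (ZMod 2)) : Matrix I4 I4 (ZMod 2)) = mat C := by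
  obtain ⟨-, hr, hx⟩ := roots_check _ h
  rw [Tbl.xU_val Data.F4.valid hr]
  exact Matrix.ext fun i j => hx (i, j)

/-- The columns of a root element. -/
def rC (r : ℕ) : List ℕ := ((rootCols.find? fun e => e.1 == r).getD (0, [])).2

theorem rC_mem : ∀ r ∈ [14, 17, 20, 22, 23, 24, 25, 27, 30, 33], (r, rC r) ∈ rootCols ∧ (rC r).length = 52 := by
  decide +kernel

theorem prod2 {a b : ℕ} (ha : a ∈ [14, 17, 20, 22, 23, 24, 25, 27, 30, 33])
    (hb : b ∈ [14, 17, 20, 22, 23, 24, 25, 27, 30, 33]) :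
    (((T4).xU (ZMod 2) a 1 * (T4).xU (ZMod 2) b 1 : GL I4 (ZMod 2)) : Matrix I4 I4 (ZMod 2)) =
      mat (mulL (rC a) (rC b)) := by
  rw [Units.val_mul, xU_one (rC_mem a ha).1, xU_one (rC_mem b hb).1, mat_mul (rC_mem a ha).2 (rC_mem b hb).2]

theorem prod3 {a b c : ℕ} (ha : a ∈ [14, 17, 20, 22, 23, 24, 25, 27, 30, 33])
    (hb : b ∈ [14, 17, 20, 22, 23, 24, 25, 27, 30, 33]) (hc : c ∈ [14, 17, 20, 22, 23, 24, 25, 27, 30, 33]) :
    (((T4).xU (ZMod 2) a 1 * ((T4).xU (ZMod 2) b 1 * (T4).xU (ZMod 2) c 1) : GL I4 (ZMod 2)) :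
      Matrix I4 I4 (ZMod 2)) = mat (mulL (rC a) (mulL (rC b) (rC c))) := by
  rw [Units.val_mul, prod2 hb hc, xU_one (rC_mem a ha).1, mat_mul (rC_mem a ha).2]
  rw [mulL, List.length_map]; exact (rC_mem c hc).2

theorem gen_cols : mulL (rC 24) (rC 33) = gC 0 ∧ mulL (rC 23) (rC 14) = gC 1 ∧
    mulL (rC 25) (mulL (rC 27) (rC 30)) = gC 2 ∧ mulL (rC 22) (mulL (rC 20) (rC 17)) = gC 3 := by
  decide +kernel

theorem gen4_val : ∀ i, ((gen4 i : GL I4 (ZMod 2)) : Matrix I4 I4 (ZMod 2)) = mat (gC i) := by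
  have hT := Data.F4.valid
  obtain ⟨e0, e1, e2, e3⟩ := gen_cols
  have hpair : ∀ a b : ℕ, pair 0 a b (1 : ZMod 2) = (T4).xU (ZMod 2) b 1 * (T4).xU (ZMod 2) a 1 := by
    intro a b; simp [pair, Tbl.gprod]
  have hquad : ∀ a b c d : ℕ, c < (T4).n → quad 0 a b c d (1 : ZMod 2) 0 =
      (T4).xU (ZMod 2) b 1 * ((T4).xU (ZMod 2) a 1 * (T4).xU (ZMod 2) d 1) := by
    intro a b c d hc
    simp [quad, Tbl.gprod, Tbl.xU_zero hT hc]
  intro i
  fin_cases i
  · show ((pair 0 33 24 (1 : ZMod 2) : GL I4 (ZMod 2)) : Matrix I4 I4 (ZMod 2)) = mat (gC 0)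
    rw [← e0, hpair]; exact prod2 (by simp) (by simp)
  · show ((pair 0 14 23 (1 : ZMod 2) : GL I4 (ZMod 2)) : Matrix I4 I4 (ZMod 2)) = mat (gC 1)
    rw [← e1, hpair]; exact prod2 (by simp) (by simp)
  · show ((quad 0 27 25 28 30 (1 : ZMod 2) 0 : GL I4 (ZMod 2)) : Matrix I4 I4 (ZMod 2)) = mat (gC 2)
    rw [← e2, hquad _ _ _ _ (by decide)]; exact prod3 (by simp) (by simp) (by simp)
  · show ((quad 0 20 22 19 17 (1 : ZMod 2) 0 : GL I4 (ZMod 2)) : Matrix I4 I4 (ZMod 2)) = mat (gC 3)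
    rw [← e3, hquad _ _ _ _ (by decide)]; exact prod3 (by simp) (by simp) (by simp)

theorem rows_check : ∀ i : Fin 4, ∀ x : I4 × I4, mat (gR i) x.1 x.2 = mat (gC i) x.2 x.1 := by
  decide +kernel

theorem gen4_transpose (i : Fin 4) : (gen4 i : Matrix I4 I4 (ZMod 2)).transpose = mat (gR i) :=
  Matrix.ext fun a b => by rw [Matrix.transpose_apply, gen4_val]; exact (rows_check i (a, b)).symm

/-- The columns of a word in the generators. -/
def wordC : List (Fin 4) → List ℕ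
  | [] => oneL
  | i :: w => mulL (gC i) (wordC w)

theorem wordC_len : ∀ w, (wordC w).length = 52
  | [] => by simp [wordC, oneL]
  | i :: w => by rw [wordC, mulL, List.length_map]; exact wordC_len w

/-- The product of a word. -/
noncomputable def wordG (w : List (Fin 4)) : GL I4 (ZMod 2) := (w.map gen4).prod

theorem wordG_val : ∀ w, ((wordG w : GL I4 (ZMod 2)) : Matrix I4 I4 (ZMod 2)) = mat (wordC w)
  | [] => by simp [wordG, wordC, mat_oneL]
  | i :: w => by
    rw [wordG, List.map_cons, List.prod_cons, Units.val_mul, gen4_val, ← wordG, wordG_val w, wordC,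
      mat_mul (gC_len i).1 (wordC_len w)]

theorem wordG_pow (w : List (Fin 4)) (n : ℕ) (h : wordC (List.replicate n w).flatten = oneL) :
    wordG w ^ n = 1 := by
  have : wordG (List.replicate n w).flatten = wordG w ^ n := by
    simp [wordG, List.map_flatten, List.prod_flatten]
  rw [← this]
  exact Units.ext (by rw [wordG_val, h, mat_oneL, Units.val_one])

theorem cert_one : wordG [0, 1] ^ 3 = 1 := wordG_pow _ _ (by decide +kernel)
theorem cert_two : wordG [2, 2, 2, 3] ^ 5 = 1 := wordG_pow _ _ (by decide +kernel)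
theorem cert_three : wordG [0, 1, 0, 2, 2, 2, 3] ^ 13 = 1 := wordG_pow _ _ (by decide +kernel)
theorem cert_four : wordG [3, 2, 2, 0, 2, 0, 2, 2, 1] ^ 13 = 1 := wordG_pow _ _ (by decide +kernel)

theorem gen4_mem (i : Fin 4) : gen4 i ∈ GT := by
  fin_cases i
  · exact gens_mem hK2 (Or.inl ⟨1, rfl⟩)
  · exact gens_mem hK2 (Or.inr (Or.inl ⟨1, rfl⟩))
  · exact gens_mem hK2 (Or.inr (Or.inr (Or.inl ⟨1, 0, rfl⟩)))
  · exact gens_mem hK2 (Or.inr (Or.inr (Or.inr ⟨1, 0, rfl⟩)))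

theorem closure_gen4 : Subgroup.closure (Set.range gen4) = GT := by
  refine le_antisymm ((Subgroup.closure_le _).mpr ?_) ?_
  · rintro _ ⟨i, rfl⟩; exact gen4_mem i
  rw [GT, grp_eq hK2, Subgroup.closure_le]
  have hi : ∀ i, gen4 i ∈ Subgroup.closure (Set.range gen4) := fun i => Subgroup.subset_closure ⟨i, rfl⟩
  have t2 : ∀ t : ZMod 2, t = 0 ∨ t = 1 := by decide
  have hp : ∀ a b : ℕ, (a, b) ∈ [(33, 24), (14, 23)] → ∀ t : ZMod 2, pair 0 a b t ∈
      Subgroup.zpowers (pair 0 a b (1 : ZMod 2)) := by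
    intro a b hab t
    rcases t2 t with rfl | rfl
    · rw [← show (1 : ZMod 2) + 1 = 0 by decide, ← pair_mul hK2 hab]
      exact mul_mem (Subgroup.mem_zpowers _) (Subgroup.mem_zpowers _)
    · exact Subgroup.mem_zpowers _
  have hq : ∀ {a b c d : ℕ} (Q : Quad a b c d) (t u : ZMod 2), quad 0 a b c d t u ∈
      Subgroup.zpowers (quad 0 a b c d (1 : ZMod 2) 0) := by
    intro a b c d Q t u
    have h1 := Subgroup.mem_zpowers (quad 0 a b c d (1 : ZMod 2) 0)
    have h01 : quad 0 a b c d (0 : ZMod 2) 1 ∈ Subgroup.zpowers (quad 0 a b c d (1 : ZMod 2) 0) := by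
      have h := mul_mem h1 h1
      rw [quad_mul hK2 Q] at h
      simpa [show (1 : ZMod 2) + 1 = 0 by decide] using h
    rcases t2 t with rfl | rfl <;> rcases t2 u with rfl | rfl
    · rw [quad_zero hK2 Q]; exact one_mem _
    · exact h01
    · exact h1
    · have h := mul_mem h01 h1
      rw [quad_mul hK2 Q] at h
      simpa using h
  rintro g (⟨t, rfl⟩ | ⟨t, rfl⟩ | ⟨t, u, rfl⟩ | ⟨t, u, rfl⟩)
  · exact Subgroup.zpowers_le.mpr (hi 0) (hp 33 24 (by simp) t)
  · exact Subgroup.zpowers_le.mpr (hi 1) (hp 14 23 (by simp) t)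
  · exact Subgroup.zpowers_le.mpr (hi 2) (hq quadPos t u)
  · exact Subgroup.zpowers_le.mpr (hi 3) (hq quadNeg t u)

end CfsgLib.Chevalley.TitsGroup
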