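import Cfsg.Agent.Lib.BNPair.Simple

/-!
Normal subgroups of a group with an irreducible (B,N)-pair of trivial core supplement `B`.
-/

set_option autoImplicit false

namespace CfsgLib.Chevalley.TitsGroup

open CfsgLib.BNPair.Basic CfsgLib.BNPair.Parabolic CfsgLib.BNPair.Simple

theorem sup_B_eq_top {G : Type*} [Group G] (P : Cfsg.BNPair G) (hirr : P.Irreducible)
    (hcore : P.B.normalCore = ⊥) (Z : Subgroup G) [hZn : Z.Normal] (hne : Z ≠ ⊥) : Z ⊔ P.B = ⊤ := by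
  have hM := eq_parabolic P (M := Z ⊔ P.B) le_sup_right
  set J := P.S ∩ ((Z ⊔ P.B : Subgroup G) : Set G)
  have hJ : J ⊆ P.S := Set.inter_subset_left
  rcases J.eq_empty_or_nonempty with hJe | hJne
  · refine absurd ?_ hne
    rw [hJe, Cfsg.BNPair.parabolic, Subgroup.closure_empty, sup_bot_eq] at hM
    rw [eq_bot_iff, ← hcore]
    exact Subgroup.normal_le_normalCore.mpr (hM ▸ le_sup_left)
  rcases (P.S \ J).eq_empty_or_nonempty with hJc | hJcne
  · rw [Set.Subset.antisymm hJ (Set.sdiff_eq_empty.mp hJc), parabolic_S] at hM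
    exact hM
  exfalso
  obtain ⟨x, hx, y, hy, hxy⟩ := hirr J hJ hJne hJcne
  apply hxy
  have hc := commute_of_normal P Z hJ hM (s := ⟨x, hJ hx⟩) (t := ⟨y, hy.1⟩) hx hy.2
  have : proj P (sN P ⟨x, hJ hx⟩ * sN P ⟨y, hy.1⟩ * (sN P ⟨x, hJ hx⟩)⁻¹ * (sN P ⟨y, hy.1⟩)⁻¹) = 1 := by
    simp only [map_mul, map_inv]
    show σ P _ * σ P _ * (σ P _)⁻¹ * (σ P _)⁻¹ = 1
    rw [← hc]; group
  simpa using (proj_eq_one P).mp this

/-- Elements of odd order lie in every normal subgroup supplemented by a 2-group. -/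
theorem odd_mem {G : Type*} [Group G] [Finite G] (B Z : Subgroup G) [Z.Normal] (h : Z ⊔ B = ⊤)
    {k : ℕ} (hB : Nat.card ↥B ∣ 2 ^ k) {g : G} {n : ℕ} (hn : Odd n) (hg : g ^ n = 1) : g ∈ Z := by
  have hsurj : Function.Surjective ((QuotientGroup.mk' Z).comp B.subtype) := by
    intro x
    obtain ⟨y, rfl⟩ := QuotientGroup.mk'_surjective Z x
    obtain ⟨z, hz, b, hb, rfl⟩ := (Subgroup.mem_sup_of_normal_left).mp (h ▸ Subgroup.mem_top y : y ∈ Z ⊔ B)
    refine ⟨⟨b, hb⟩, ?_⟩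
    show QuotientGroup.mk' Z b = QuotientGroup.mk' Z (z * b)
    rw [map_mul, show QuotientGroup.mk' Z z = 1 from (QuotientGroup.eq_one_iff z).mpr hz, one_mul]
  have h1 : orderOf (QuotientGroup.mk' Z g) ∣ 2 ^ k :=
    ((orderOf_dvd_natCard _).trans (Subgroup.card_dvd_of_surjective _ hsurj)).trans hB
  have h2 : orderOf (QuotientGroup.mk' Z g) ∣ n := orderOf_dvd_of_pow_eq_one (by rw [← map_pow, hg, map_one])
  exact (QuotientGroup.eq_one_iff g).mp (orderOf_eq_one_iff.mp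
    (Nat.eq_one_of_dvd_coprimes (Nat.Coprime.pow_left k hn.coprime_two_left) h1 h2))

end CfsgLib.Chevalley.TitsGroup
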