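import Cfsg.Agent.Lib.Chevalley.TitsGroup.Bits
import Cfsg.Agent.Lib.Chevalley.TitsGroup.Data
import Cfsg.Agent.Lib.Chevalley.Twist.InstF4

/-!
The four generators of `²F₄(2)` as coded matrices.
-/

set_option autoImplicit false
set_option maxRecDepth 20000

namespace CfsgLib.Chevalley.TitsGroup

local notation "T4" => Data.F4.tbl

theorem roots_check : ∀ e ∈ rootCols, e.2.length = 52 ∧ e.1 < (T4).n ∧ ∀ x : I4 × I4,
    (Tbl.X (T := T4) (ZMod 2) e.1 1 : Matrix I4 I4 (ZMod 2)) x.1 x.2 = mat e.2 x.1 x.2 := by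
  decide +kernel

end CfsgLib.Chevalley.TitsGroup
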